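import Mathlib.GroupTheory.Perm.Fin
import Mathlib.GroupTheory.Perm.Support
import Mathlib.Data.Fintype.Perm

/-!
# Commutators in the symmetric groups of degree three and four
-/

set_option autoImplicit false

namespace CfsgLib.Manning

open Equiv

theorem fin3_key : ∀ a : Perm (Fin 3), a ≠ 1 → ∃ π : Perm (Fin 3), a * π * a⁻¹ * π⁻¹ ≠ 1 ∧
    (a * π * a⁻¹ * π⁻¹) * (a * π * a⁻¹ * π⁻¹) * (a * π * a⁻¹ * π⁻¹) = 1 := by
  decide +kernel

theorem fin3_moves : ∀ a : Perm (Fin 3), a ≠ 1 → a * a * a = 1 → ∀ i, a i ≠ i := by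
  decide +kernel

theorem fin4_first : ∀ a : Perm (Fin 4), a ≠ 1 → ∃ π π' : Perm (Fin 4),
    let b := a * π * a⁻¹ * π⁻¹
    let v := b * π' * b⁻¹ * π'⁻¹
    v * v = 1 ∧ ∀ i, v i ≠ i := by
  decide +kernel

end CfsgLib.Manning
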