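import Cfsg.Agent.Manning.Small
import Cfsg.Agent.Manning.Fin34
import Mathlib.GroupTheory.SpecificGroups.Alternating.Simple
import Mathlib.GroupTheory.SpecificGroups.Alternating.Centralizer
import Mathlib.GroupTheory.Sylow

/-!
# `(r+1)`-transitive groups of degree `kp + r`
-/

set_option autoImplicit false
set_option linter.style.haveILetI false
set_option maxHeartbeats 1000000

namespace CfsgLib.Manning

open Equiv Equiv.Perm MulAction

variable {α : Type*} [Fintype α] [DecidableEq α]

theorem main {G : Subgroup (Perm α)} {k p r : ℕ} (hp : p.Prime) (hn : Fintype.card α = k * p + r)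
    (hk : 1 ≤ k) (hpk : k < p) (hr3 : 3 ≤ r) (hrk : k < r)
    (hG : IsMultiplyPretransitive G α (r + 1)) : alternatingGroup α ≤ G := by
  classical
  haveI : Fact p.Prime := ⟨hp⟩
  have hp2 := hp.two_le
  have hkp : p ≤ k * p := Nat.le_mul_of_pos_left p hk
  haveI := hG
  have hG4 : IsMultiplyPretransitive G α 4 :=
    MulAction.isMultiplyPretransitive_of_le (n := r + 1) (by omega)
      (by rw [Nat.card_eq_fintype_card]; omega)
  have hG2 : IsMultiplyPretransitive G α 2 := by
    haveI := hG4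
    exact MulAction.isMultiplyPretransitive_of_le (n := 4) (by norm_num)
      (by rw [Nat.card_eq_fintype_card]; omega)
  have hprim : IsPreprimitive G α := isPreprimitive_of_is_two_pretransitive hG2
  by_contra hnot
  have hno3 : ∀ t ∈ G, ¬ IsThreeCycle t := fun t ht h3 =>
    hnot (alternatingGroup_le_of_isPreprimitive_of_isThreeCycle_mem hprim h3 ht)
  have hnop : ∀ t ∈ G, t.IsCycle → t.support.card = p → False := fun t ht hc hcard =>
    hnot (CfsgLib.Jordan.alternatingGroup_le_of_isCycle hprim ht hc (by rw [hcard]; exact hp)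
      (by rw [hcard, hn]; omega))
  -- the `r` fixed points
  let s : Fin r ↪ α :=
    (Fin.castLEEmb (show r ≤ Fintype.card α by omega)).trans (Fintype.equivFin α).symm.toEmbedding
  let H : Subgroup (Perm α) :=
    { carrier := {x | x ∈ G ∧ ∀ i, x (s i) = s i}
      one_mem' := ⟨G.one_mem, fun _ => rfl⟩
      mul_mem' := fun {x y} hx hy => ⟨G.mul_mem hx.1 hy.1, fun i => by
        rw [Perm.mul_apply, hy.2, hx.2]⟩
      inv_mem' := fun {x} hx => ⟨G.inv_mem hx.1, fun i => by rw [Perm.inv_eq_iff_eq, hx.2]⟩ }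
  obtain ⟨P0⟩ : Nonempty (Sylow p H) := inferInstance
  let P : Subgroup (Perm α) := (P0 : Subgroup H).map H.subtype
  have hPH : P ≤ H := by rintro _ ⟨x, -, rfl⟩; exact x.2
  have hPG : P ≤ G := fun x hx => (hPH hx).1
  have hPs : ∀ g ∈ P, ∀ i, g (s i) = s i := fun g hg => (hPH hg).2
  have hPp : IsPGroup p P := P0.isPGroup'.map _
  -- transitivity off the fixed points
  have htrans : ∀ a b, a ∉ Set.range s → b ∉ Set.range s → ∃ x ∈ H, x a = b := by
    intro a b ha hb
    obtain ⟨x, hx, h⟩ := exists_map hG (x := Fin.cons a s) (y := Fin.cons b s)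
      (Fin.cons_injective_iff.2 ⟨ha, s.injective⟩) (Fin.cons_injective_iff.2 ⟨hb, s.injective⟩)
    exact ⟨x, ⟨hx, fun i => by simpa using h i.succ⟩, by simpa using h 0⟩
  have hcardC : Nat.card {a : α // a ∉ Set.range s} = k * p := by
    rw [Nat.card_eq_fintype_card, Fintype.card_subtype_compl,
      show Fintype.card {a : α // a ∈ Set.range s} = r by
        rw [← Nat.card_eq_fintype_card]
        exact (Nat.card_congr (Equiv.ofInjective s s.injective).symm).trans (Nat.card_fin r), hn]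
    omega
  have hout : ∀ g ∈ P, ∀ a, a ∉ Set.range s → g a ∉ Set.range s := by
    rintro g hg a ha ⟨i, hi⟩
    exact ha ⟨i, g.injective (by rw [hPs g hg, hi])⟩
  have hmove : ∀ a, a ∉ Set.range s → ∃ g ∈ P, g a ≠ a := by
    intro a ha
    by_contra hno
    simp only [not_exists, not_and, not_not] at hno
    have hle : (P0 : Subgroup H) ≤ stabilizer H a := fun x hx =>
      MulAction.mem_stabilizer_iff.2 (hno x.1 ⟨x, hx, rfl⟩)
    have horb : orbit H a = (Set.range s)ᶜ := by
      ext b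
      constructor
      · rintro ⟨x, rfl⟩ ⟨i, hi⟩
        exact ha ⟨i, x.1.injective ((x.2.2 i).trans hi)⟩
      · intro hb
        obtain ⟨x, hx, rfl⟩ := htrans a b ha hb
        exact ⟨⟨x, hx⟩, rfl⟩
    have hidx : (stabilizer H a).index = k * p := by
      rw [MulAction.index_stabilizer, horb, ← Nat.card_coe_set_eq]
      exact hcardC
    exact P0.not_dvd_index ((dvd_mul_left p k).trans (hidx ▸ Subgroup.index_dvd_of_le hle))
  let R : α → α → Prop := fun a b => ∃ g ∈ P, g a = b
  have hRrefl : ∀ a, R a a := fun a => ⟨1, P.one_mem, rfl⟩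
  have hRsymm : ∀ {a b}, R a b → R b a := fun {a b} ⟨g, hg, e⟩ =>
    ⟨g⁻¹, P.inv_mem hg, by rw [Perm.inv_eq_iff_eq, e]⟩
  have hRtrans : ∀ {a b c}, R a b → R b c → R a c := fun {a b c} ⟨g, hg, e⟩ ⟨h, hh, e'⟩ =>
    ⟨h * g, P.mul_mem hh hg, by rw [Perm.mul_apply, e, e']⟩
  have hRout : ∀ {a b}, R a b → a ∉ Set.range s → b ∉ Set.range s := fun {a b} ⟨g, hg, e⟩ ha =>
    e ▸ hout g hg a ha
  have horbR : ∀ a, orbit P a = {b | R a b} := fun a => by
    ext b
    exact ⟨fun ⟨g, hg⟩ => ⟨g.1, g.2, hg⟩, fun ⟨g, hg, e⟩ => ⟨⟨g, hg⟩, e⟩⟩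
  have horb : ∀ a, a ∉ Set.range s → (orbit P a).ncard = p := by
    intro a ha
    obtain ⟨j, hj⟩ := hPp.card_orbit a
    rw [Nat.card_coe_set_eq] at hj
    have hle : (orbit P a).ncard ≤ k * p := by
      rw [← hcardC, show Nat.card {a : α // a ∉ Set.range s} = ((Set.range s)ᶜ).ncard from
        Nat.card_coe_set_eq _]
      refine Set.ncard_le_ncard ?_ (Set.toFinite _)
      rw [horbR]
      exact fun b hb => hRout hb ha
    obtain ⟨g, hg, hga⟩ := hmove a ha
    have h2 : 1 < (orbit P a).ncard := by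
      rw [Set.one_lt_ncard (Set.toFinite _)]
      exact ⟨g a, ⟨⟨g, hg⟩, rfl⟩, a, mem_orbit_self a, hga⟩
    rw [hj] at h2 hle ⊢
    rcases Nat.lt_or_ge j 2 with h | h
    · interval_cases j
      · simp at h2
      · exact pow_one p
    · exfalso
      have h3 := (Nat.pow_le_pow_right (show 0 < p by omega) h).trans hle
      rw [pow_two] at h3
      have := Nat.le_of_mul_le_mul_right h3 (by omega)
      omega
  have hsub : ∀ g ∈ P, ∀ a, a ∉ Set.range s → g a ≠ a →
      orbit (Subgroup.zpowers g) a = orbit P a := by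
    intro g hg a ha hga
    have hle : orbit (Subgroup.zpowers g) a ⊆ orbit P a := by
      rintro _ ⟨x, rfl⟩
      exact ⟨⟨x.1, (Subgroup.zpowers_le.2 hg) x.2⟩, rfl⟩
    refine Set.eq_of_subset_of_ncard_le hle ?_ (Set.toFinite _)
    obtain ⟨j, hj⟩ := (hPp.to_le (Subgroup.zpowers_le.2 hg)).card_orbit a
    rw [Nat.card_coe_set_eq] at hj
    have h2 : 1 < (orbit (Subgroup.zpowers g) a).ncard := by
      rw [Set.one_lt_ncard (Set.toFinite _)]
      exact ⟨g a, ⟨⟨g, Subgroup.mem_zpowers g⟩, rfl⟩, a, mem_orbit_self a, hga⟩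
    rw [horb a ha, hj]
    rw [hj] at h2
    rcases j with _ | j
    · simp at h2
    · exact Nat.le_self_pow (Nat.succ_ne_zero j) p
  have hgen : ∀ g ∈ P, ∀ a, a ∉ Set.range s → g a ≠ a → ∀ b, R a b → ∃ i : ℕ, (g ^ i) a = b := by
    intro g hg a ha hga b hb
    have h : b ∈ orbit (Subgroup.zpowers g) a := by rw [hsub g hg a ha hga, horbR]; exact hb
    obtain ⟨⟨x, hx⟩, e⟩ := h
    rw [← (isOfFinOrder_of_finite g).mem_powers_iff_mem_zpowers] at hx
    obtain ⟨i, rfl⟩ := hx
    exact ⟨i, e⟩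
  have hfix : ∀ g ∈ P, ∀ a, a ∉ Set.range s → g a = a → ∀ b, R a b → g b = b := by
    intro g hg a ha hga b hb
    by_contra hgb
    obtain ⟨i, hi⟩ := hgen g hg b (hRout hb ha) hgb a (hRsymm hb)
    refine hgb ((g ^ i).injective ?_)
    rw [← Perm.mul_apply, ← pow_succ, pow_succ', Perm.mul_apply, hi, hga]
  have hrep : ∀ g ∈ P, ∀ a, a ∉ Set.range s → g a ≠ a → ∀ g' ∈ P,
      ∃ i : ℕ, ∀ b, R a b → g' b = (g ^ i) b := by
    intro g hg a ha hga g' hg'
    obtain ⟨i, hi⟩ := hgen g hg a ha hga (g' a) ⟨g', hg', rfl⟩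
    refine ⟨i, fun b hb => ?_⟩
    have h := hfix ((g ^ i)⁻¹ * g') (P.mul_mem (P.inv_mem (P.pow_mem hg i)) hg') a ha
      (by rw [Perm.mul_apply, Perm.inv_eq_iff_eq, hi]) b hb
    rwa [Perm.mul_apply, Perm.inv_eq_iff_eq] at h
  have hagree : ∀ g ∈ P, ∀ h ∈ P, ∀ a, (∀ b, R a b → g b = h b) →
      ∀ i : ℕ, ∀ b, R a b → (g ^ i) b = (h ^ i) b := by
    intro g hg h hh a heq i
    induction i with
    | zero => intro b _; rfl
    | succ i ih =>
      intro b hb
      rw [pow_succ, pow_succ, Perm.mul_apply, Perm.mul_apply, heq b hb]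
      exact ih _ (hRtrans hb ⟨h, hh, rfl⟩)
  have hpow : ∀ g ∈ P, ∀ a, a ∉ Set.range s → (g ^ p) a = a := by
    intro g hg a ha
    by_cases hga : g a = a
    · exact Equiv.Perm.pow_apply_eq_self_of_apply_eq_self hga p
    have hidx : (stabilizer (Subgroup.zpowers g) a).index = p := by
      rw [MulAction.index_stabilizer, hsub g hg a ha hga, horb a ha]
    have h := Subgroup.pow_index_mem (stabilizer (Subgroup.zpowers g) a)
      (⟨g, Subgroup.mem_zpowers g⟩ : Subgroup.zpowers g)
    rw [hidx] at h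
    exact h
  -- the normaliser of `P`
  let N : Subgroup (Perm α) := G ⊓ Subgroup.normalizer (P : Set (Perm α))
  have hNc : ∀ x : N, ∀ g ∈ P, (x : Perm α) * g * (x : Perm α)⁻¹ ∈ P := fun x g hg =>
    (Subgroup.mem_normalizer_iff.1 x.2.2 g).1 hg
  have hNc' : ∀ x : N, ∀ g ∈ P, (x : Perm α)⁻¹ * g * (x : Perm α) ∈ P := fun x g hg => by
    simpa using hNc x⁻¹ g hg
  have hNs : ∀ x : N, ∀ i, (x : Perm α) (s i) ∈ Set.range s := by
    intro x i
    by_contra h
    obtain ⟨g, hg, hga⟩ := hmove _ h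
    refine hga ?_
    have h1 := hPs _ (hNc' x g hg) i
    rw [Perm.mul_apply, Perm.mul_apply, Perm.inv_eq_iff_eq] at h1
    exact h1
  have hNout : ∀ x : N, ∀ a, a ∉ Set.range s → (x : Perm α) a ∉ Set.range s := by
    rintro x a ha ⟨i, hi⟩
    obtain ⟨j, hj⟩ := hNs x⁻¹ i
    refine ha ⟨j, ?_⟩
    rw [hj, Subgroup.coe_inv, Perm.inv_eq_iff_eq, hi]
  choose j hj using hNs
  have hjinj : ∀ x : N, Function.Injective (j x) := fun x i i' h =>
    s.injective ((x : Perm α).injective (by rw [← hj, ← hj, h]))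
  let ρ : N →* Perm (Fin r) :=
    MonoidHom.mk' (fun x => Equiv.ofBijective (j x) (Finite.injective_iff_bijective.1 (hjinj x)))
      fun x y => Equiv.ext fun i => s.injective (by
        rw [Perm.mul_apply]
        simp only [Equiv.ofBijective_apply]
        rw [hj, hj, hj, Subgroup.coe_mul, Perm.mul_apply])
  have hρ : ∀ (x : N) (i : Fin r), (x : Perm α) (s i) = s (ρ x i) := fun x i => (hj x i).symm
  have hGr : MulAction.IsMultiplyPretransitive G α r := by
    haveI := hG
    exact MulAction.isMultiplyPretransitive_of_le (n := r + 1) (by omega)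
      (by rw [Nat.card_eq_fintype_card]; omega)
  have hWitt : Function.Surjective ρ := by
    intro π
    obtain ⟨g, hg, hgs⟩ := exists_map (m := r) hGr
      (x := fun i => s i) (y := fun i => s (π i)) s.injective (s.injective.comp π.injective)
    have hgP : P.map (MulAut.conj g).toMonoidHom ≤ H := by
      rintro _ ⟨x, hx, rfl⟩
      refine ⟨G.mul_mem (G.mul_mem hg (hPG hx)) (G.inv_mem hg), fun i => ?_⟩
      show (g * x * g⁻¹) (s i) = s i
      have hi : g (s (π.symm i)) = s i := by rw [hgs, Equiv.apply_symm_apply]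
      rw [Perm.mul_apply, Perm.mul_apply, show g⁻¹ (s i) = s (π.symm i) by
        rw [Perm.inv_eq_iff_eq, hi], hPs x hx, hi]
    let Q : Sylow p H := Sylow.ofCard ((P.map (MulAut.conj g).toMonoidHom).subgroupOf H) (by
      rw [Nat.card_congr (Subgroup.subgroupOfEquivOfLe hgP).toEquiv,
        Subgroup.card_map_of_injective (MulAut.conj g).injective,
        Subgroup.card_map_of_injective H.subtype_injective, P0.card_eq_multiplicity])
    obtain ⟨h, hh⟩ := MulAction.exists_smul_eq H Q P0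
    have hyG : (h : Perm α) * g ∈ G := G.mul_mem h.2.1 hg
    have key : ∀ x ∈ P, (h : Perm α) * g * x * ((h : Perm α) * g)⁻¹ ∈ P := by
      intro x hx
      have hxQ : (⟨g * x * g⁻¹, hgP ⟨x, hx, rfl⟩⟩ : H) ∈ (Q : Subgroup H) := ⟨x, hx, rfl⟩
      have : h * ⟨g * x * g⁻¹, hgP ⟨x, hx, rfl⟩⟩ * h⁻¹ ∈ (P0 : Subgroup H) := by
        rw [← hh, Sylow.smul_def, Sylow.pointwise_smul_def]
        exact ⟨_, hxQ, rfl⟩
      refine ⟨_, this, ?_⟩
      show (h : Perm α) * (g * x * g⁻¹) * (h : Perm α)⁻¹ = _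
      group
    have hyN : (h : Perm α) * g ∈ Subgroup.normalizer (P : Set (Perm α)) := by
      set y := (h : Perm α) * g
      have hmap : P.map (MulAut.conj y).toMonoidHom = P := by
        refine Subgroup.eq_of_le_of_card_ge ?_ (le_of_eq (Subgroup.card_map_of_injective (MulAut.conj y).injective).symm)
        rintro _ ⟨x, hx, rfl⟩
        exact key x hx
      rw [Subgroup.mem_normalizer_iff]
      refine fun x => ⟨key x, fun hx => ?_⟩
      rw [← hmap] at hx
      obtain ⟨x', hx', e⟩ := hx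
      rwa [← mul_left_cancel (mul_right_cancel (e : y * x' * y⁻¹ = y * x * y⁻¹))]
    refine ⟨⟨_, hyG, hyN⟩, Equiv.ext fun i => s.injective ?_⟩
    rw [← hρ]
    show ((h : Perm α) * g) (s i) = s (π i)
    rw [Perm.mul_apply, hgs, h.2.2]
  -- the action on the orbits
  let S : Setoid {a : α // a ∉ Set.range s} :=
    ⟨fun a b => R a b, fun a => hRrefl a, hRsymm, hRtrans⟩
  let Ω := Quotient S
  have hΩ : Nat.card Ω = k := by
    have h := Nat.card_congr (Equiv.sigmaFiberEquiv (Quotient.mk S)).symm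
    rw [hcardC, Nat.card_sigma] at h
    have hf : ∀ w : Ω, Nat.card {a // Quotient.mk S a = w} = p := by
      intro w
      obtain ⟨a, rfl⟩ := Quotient.exists_rep w
      rw [← horb a a.2, horbR, ← Nat.card_coe_set_eq]
      exact Nat.card_congr
        { toFun := fun b => ⟨b.1.1, hRsymm (Quotient.exact b.2)⟩
          invFun := fun b => ⟨⟨b.1, hRout b.2 a.2⟩, Quotient.sound (hRsymm b.2)⟩
          left_inv := fun b => rfl
          right_inv := fun b => rfl }
    simp only [hf, Finset.sum_const, Finset.card_univ, smul_eq_mul] at h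
    rw [← Nat.card_eq_fintype_card] at h
    exact Nat.eq_of_mul_eq_mul_right hp.pos h.symm
  have hNR : ∀ (x : N) {a b}, R a b → R ((x : Perm α) a) ((x : Perm α) b) := fun x {a b} ⟨g, hg, e⟩ =>
    ⟨_, hNc x g hg, by rw [Perm.mul_apply, Perm.mul_apply, Perm.coe_inv, Equiv.symm_apply_apply, e]⟩
  let tf : N → Ω → Ω := fun x => Quotient.map
    (fun a => ⟨(x : Perm α) a, hNout x a a.2⟩) fun _ _ h => hNR x h
  have tf_mul : ∀ x y w, tf (x * y) w = tf x (tf y w) := fun x y w => by
    induction w using Quotient.ind with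
    | _ a => rfl
  have tf_one : ∀ w, tf 1 w = w := fun w => by
    induction w using Quotient.ind with
    | _ a => rfl
  let τ : N →* Perm Ω :=
    MonoidHom.mk' (fun x =>
      { toFun := tf x
        invFun := tf x⁻¹
        left_inv := fun w => by rw [← tf_mul, inv_mul_cancel, tf_one]
        right_inv := fun w => by rw [← tf_mul, mul_inv_cancel, tf_one] })
      fun x y => Equiv.ext fun w => tf_mul x y w
  let K : Subgroup N := τ.ker
  have hK : ∀ x ∈ K, ∀ a, a ∉ Set.range s → R a ((x : Perm α) a) := fun x hx a ha => by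
    have h := congrArg (fun e : Perm Ω => e (Quotient.mk S ⟨a, ha⟩)) (MonoidHom.mem_ker.1 hx)
    exact hRsymm (Quotient.exact h)
  have hKN : (K.map ρ).Normal := (MonoidHom.normal_ker τ).map ρ hWitt
  have hKne : K.map ρ ≠ ⊥ := by
    intro hbot
    rw [Subgroup.map_eq_bot_iff] at hbot
    have h1 : Nat.card (Perm (Fin r)) ∣ K.index := by
      rw [← Subgroup.card_top (G := Perm (Fin r)), ← MonoidHom.range_eq_top.2 hWitt, ← Subgroup.index_ker]
      exact Subgroup.index_dvd_of_le hbot
    have h2 : K.index ≤ k.factorial := by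
      rw [← hΩ, ← Nat.card_perm (α := Ω), Subgroup.index_ker]
      exact Subgroup.card_le_card_group _
    have h3 : k.factorial < r.factorial := (Nat.factorial_lt hk).2 hrk
    have h4 := Nat.le_of_dvd (Nat.pos_of_ne_zero Subgroup.index_ne_zero_of_finite) h1
    rw [Nat.card_perm, Nat.card_fin] at h4
    omega
  -- elements fixing everything off the `r` points
  have hsmall : ∀ (x : N), (∀ a, a ∉ Set.range s → (x : Perm α) a = a) →
      (x : Perm α).support = (ρ x).support.map s := by
    intro x hx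
    ext a
    simp only [Finset.mem_map, mem_support]
    constructor
    · intro ha
      by_cases h : a ∈ Set.range s
      · obtain ⟨i, rfl⟩ := h
        exact ⟨i, fun h' => ha (by rw [hρ, h']), rfl⟩
      · exact absurd (hx a h) ha
    · rintro ⟨i, hi, rfl⟩ h
      rw [hρ] at h
      exact hi (s.injective h)
  -- on each orbit an element of `K` acts on `P` by a power
  have hscal : ∀ x ∈ K, ∀ a, a ∉ Set.range s →
      ∃ u : ℕ, ∀ g ∈ P, ∀ b, R a b → ((x : Perm α) * g * (x : Perm α)⁻¹) b = (g ^ u) b := by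
    intro x hx a ha
    obtain ⟨g, hg, hga⟩ := hmove a ha
    obtain ⟨u, hu⟩ := hrep g hg a ha hga _ (hNc x g hg)
    refine ⟨u, fun g' hg' b hb => ?_⟩
    obtain ⟨i, hi⟩ := hrep g hg a ha hga g' hg'
    have hxb : R a ((x : Perm α)⁻¹ b) :=
      hRtrans hb (by simpa using hK x⁻¹ (K.inv_mem hx) b (hRout hb ha))
    calc ((x : Perm α) * g' * (x : Perm α)⁻¹) b = ((x : Perm α) * g ^ i * (x : Perm α)⁻¹) b := by
          rw [Perm.mul_apply, Perm.mul_apply, hi _ hxb, ← Perm.mul_apply, ← Perm.mul_apply]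
      _ = (((x : Perm α) * g * (x : Perm α)⁻¹) ^ i) b := by rw [conj_pow]
      _ = ((g ^ u) ^ i) b := hagree _ (hNc x g hg) _ (P.pow_mem hg u) a hu i b hb
      _ = ((g ^ i) ^ u) b := by rw [← pow_mul, ← pow_mul, mul_comm]
      _ = (g' ^ u) b := (hagree _ hg' _ (P.pow_mem hg i) a hi u b hb).symm
  -- conjugation agreement forces the commutator to act as an element of `P`
  have htransl : ∀ (x y : N) (a : α), a ∉ Set.range s → R a (((x * y * x⁻¹ * y⁻¹ : N) : Perm α) a) →
      (∀ g ∈ P, ∀ b, R a b → ((x * y : N) : Perm α) (g (((x * y : N) : Perm α)⁻¹ b)) =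
        ((y * x : N) : Perm α) (g (((y * x : N) : Perm α)⁻¹ b))) →
      ∃ g ∈ P, ∀ b, R a b → ((x * y * x⁻¹ * y⁻¹ : N) : Perm α) b = g b := by
    intro x y a ha hca hconj
    obtain ⟨e, he, hea⟩ := hmove a ha
    set c := ((x * y * x⁻¹ * y⁻¹ : N) : Perm α) with hc
    have hcb : ∀ b, R a b → R a (c b) := fun b hb => hRtrans hca (hNR _ hb)
    have hcomm : ∀ g ∈ P, ∀ b, R a b → c (g b) = g (c b) := by
      intro g hg b hb
      have hg1 := hNc' (y * x) g hg
      have h := hconj _ hg1 (c b) (hcb b hb)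
      have e1 : c = ((x * y : N) : Perm α) * (((y * x : N) : Perm α))⁻¹ := by
        rw [hc]; simp only [Subgroup.coe_mul, Subgroup.coe_inv]; group
      rw [e1] at h ⊢
      simpa [Perm.mul_apply] using h
    obtain ⟨i, hi⟩ := hgen e he a ha hea (c a) hca
    refine ⟨e ^ i, P.pow_mem he i, fun b hb => ?_⟩
    obtain ⟨l, rfl⟩ := hgen e he a ha hea b hb
    rw [hcomm _ (P.pow_mem he l) a (hRrefl a), ← hi, ← Perm.mul_apply, ← Perm.mul_apply, ← pow_add,
      ← pow_add, add_comm]
  rcases Nat.lt_or_ge r 5 with hr5 | hr5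
  · -- three or four fixed points
    have hstab : Nat.card P = p → ∀ g ∈ P, ∀ a, a ∉ Set.range s → g a = a → g = 1 := by
      intro hPc g hg a ha hga
      have h := Subgroup.index_mul_card (stabilizer P a)
      rw [MulAction.index_stabilizer, horb a ha, hPc] at h
      have h1 : Nat.card (stabilizer P a) = 1 := Nat.eq_one_of_mul_eq_one_left
        (show 1 * Nat.card (stabilizer P a) = 1 by
          rw [one_mul]; exact Nat.eq_of_mul_eq_mul_left hp.pos (h.trans (mul_one p).symm))
      have h2 : (⟨g, hg⟩ : P) ∈ stabilizer P a := hga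
      rw [Subgroup.eq_bot_of_card_eq _ h1, Subgroup.mem_bot] at h2
      exact congrArg Subtype.val h2
    have hone : ∀ g ∈ P, g ≠ 1 → ∀ a, a ∉ Set.range s → (∀ b, g b ≠ b → R a b) → False := by
      intro g hg hg1 a ha hsupp
      obtain ⟨b, hb⟩ : ∃ b, g b ≠ b := by
        by_contra h
        simp only [not_exists, not_not] at h
        exact hg1 (Equiv.ext h)
      have hga : g a ≠ a := fun h => hb (hfix g hg a ha h b (hsupp b hb))
      refine hnop g (hPG hg) ⟨a, hga, fun c hc => ?_⟩ ?_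
      · obtain ⟨i, hi⟩ := hgen g hg a ha hga c (hsupp c hc)
        exact ⟨i, by simpa using hi⟩
      · rw [← horb a ha, ← Set.ncard_coe_finset]
        congr 1
        ext c
        rw [horbR]
        simp only [Finset.mem_coe, mem_support, Set.mem_setOf_eq]
        refine ⟨hsupp c, fun hc h => hga ?_⟩
        exact hfix g hg c (hRout hc ha) h a (hRsymm hc)
    have hk3 : k ≤ 3 := by omega
    have hpair : ∀ x ∈ K, ∀ a, a ∉ Set.range s → ∀ b, b ∉ Set.range s → ¬ R a b →
        ∀ u : ℕ, (∀ g ∈ P, ∀ c, R a c → ((x : Perm α) * g * (x : Perm α)⁻¹) c = (g ^ u) c) →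
        ∃ g ∈ P, g b ≠ b ∧ (x : Perm α) * g * (x : Perm α)⁻¹ = g ^ u := by
      intro x hx a ha b hb hab u hu
      by_cases hPc : Nat.card P = p
      · obtain ⟨g, hg, hgb⟩ := hmove b hb
        refine ⟨g, hg, hgb, (inv_mul_eq_one.1 (hstab hPc ((g ^ u)⁻¹ * ((x : Perm α) * g * (x : Perm α)⁻¹))
          (P.mul_mem (P.inv_mem (P.pow_mem hg u)) (hNc x g hg)) a ha ?_)).symm⟩
        rw [Perm.mul_apply, Perm.inv_eq_iff_eq, hu g hg a (hRrefl a)]
      · have hstne : ∀ c, c ∉ Set.range s → ∃ g ∈ P, g ≠ 1 ∧ g c = c := by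
          intro c hc
          rcases Subgroup.bot_or_exists_ne_one (stabilizer P c) with h | ⟨g, hg, hg1⟩
          · exfalso
            have h' := Subgroup.index_mul_card (stabilizer P c)
            rw [MulAction.index_stabilizer, horb c hc, h, Subgroup.card_bot, mul_one] at h'
            exact hPc h'.symm
          · exact ⟨g.1, g.2, fun e => hg1 (Subtype.ext e), hg⟩
        obtain ⟨c, hc, hca, hcb⟩ : ∃ c, c ∉ Set.range s ∧ ¬ R a c ∧ ¬ R b c := by
          by_contra hno
          obtain ⟨g, hg, hg1, hgb⟩ := hstne b hb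
          refine hone g hg hg1 a ha fun c hc => ?_
          by_contra hac
          have hcs : c ∉ Set.range s := by rintro ⟨i, rfl⟩; exact hc (hPs g hg i)
          by_cases hbc : R b c
          · exact hc (hfix g hg b hb hgb c hbc)
          · exact hno ⟨c, hcs, hac, hbc⟩
        have hcover : ∀ d, d ∉ Set.range s → R a d ∨ R b d ∨ R c d := by
          intro d hd
          by_contra hno
          simp only [not_or] at hno
          let q : {a : α // a ∉ Set.range s} → Ω := Quotient.mk S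
          have hne : ∀ {u v : {a : α // a ∉ Set.range s}}, ¬ R u v → q u ≠ q v := fun h e => h (Quotient.exact e)
          have h4 : ({q ⟨a, ha⟩, q ⟨b, hb⟩, q ⟨c, hc⟩, q ⟨d, hd⟩} : Finset Ω).card = 4 := by
            rw [Finset.card_insert_of_notMem, Finset.card_insert_of_notMem, Finset.card_insert_of_notMem,
              Finset.card_singleton]
            · simp [hne (u := ⟨c, hc⟩) (v := ⟨d, hd⟩) hno.2.2]
            · simp [hne (u := ⟨b, hb⟩) (v := ⟨c, hc⟩) hcb, hne (u := ⟨b, hb⟩) (v := ⟨d, hd⟩) hno.2.1]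
            · simp [hne (u := ⟨a, ha⟩) (v := ⟨b, hb⟩) hab, hne (u := ⟨a, ha⟩) (v := ⟨c, hc⟩) hca,
                hne (u := ⟨a, ha⟩) (v := ⟨d, hd⟩) hno.1]
          have h5 := Finset.card_le_univ ({q ⟨a, ha⟩, q ⟨b, hb⟩, q ⟨c, hc⟩, q ⟨d, hd⟩} : Finset Ω)
          rw [h4, ← Nat.card_eq_fintype_card, hΩ] at h5
          omega
        obtain ⟨g, hg, hg1, hgc⟩ := hstne c hc
        refine ⟨g, hg, fun hgb => ?_, ?_⟩
        · refine hone g hg hg1 a ha fun d hd => ?_
          have hds : d ∉ Set.range s := by rintro ⟨i, rfl⟩; exact hd (hPs g hg i)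
          rcases hcover d hds with h | h | h
          · exact h
          · exact absurd (hfix g hg b hb hgb d h) hd
          · exact absurd (hfix g hg c hc hgc d h) hd
        · by_contra hne
          let h := (g ^ u)⁻¹ * ((x : Perm α) * g * (x : Perm α)⁻¹)
          have hh : h ∈ P := P.mul_mem (P.inv_mem (P.pow_mem hg u)) (hNc x g hg)
          refine hone h hh (fun e => hne (inv_mul_eq_one.1 e).symm) b hb fun d hd => ?_
          have hds : d ∉ Set.range s := by rintro ⟨i, rfl⟩; exact hd (hPs h hh i)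
          rcases hcover d hds with h' | h' | h'
          · refine absurd ?_ hd
            show ((g ^ u)⁻¹ * ((x : Perm α) * g * (x : Perm α)⁻¹)) d = d
            rw [Perm.mul_apply, Perm.inv_eq_iff_eq, hu g hg d h']
          · exact h'
          · refine absurd ?_ hd
            show ((g ^ u)⁻¹ * ((x : Perm α) * g * (x : Perm α)⁻¹)) d = d
            have hxd : R c ((x : Perm α)⁻¹ d) :=
              hRtrans h' (by simpa using hK x⁻¹ (K.inv_mem hx) d hds)
            rw [Perm.mul_apply, Perm.inv_eq_iff_eq, Perm.mul_apply, Perm.mul_apply,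
              hfix g hg c hc hgc _ hxd, Equiv.Perm.pow_apply_eq_self_of_apply_eq_self (hfix g hg c hc hgc d h') u]
            simp
    have huni : ∀ x ∈ K, ∃ u : ℕ, ∀ g ∈ P, (x : Perm α) * g * (x : Perm α)⁻¹ = g ^ u := by
      intro x hx
      obtain ⟨⟨a, ha⟩⟩ : Nonempty {a : α // a ∉ Set.range s} := by
        refine (Nat.card_pos_iff.1 ?_).1
        rw [hcardC]; exact Nat.mul_pos hk hp.pos
      obtain ⟨u, hu⟩ := hscal x hx a ha
      refine ⟨u, fun g hg => Equiv.ext fun b => ?_⟩
      by_cases hb : b ∈ Set.range s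
      · obtain ⟨i, rfl⟩ := hb
        rw [hPs _ (hNc x g hg), hPs _ (P.pow_mem hg u)]
      by_cases hab : R a b
      · exact hu g hg b hab
      obtain ⟨v, hv⟩ := hscal x hx b hb
      obtain ⟨e, he, heb, hxe⟩ := hpair x hx a ha b hb hab u hu
      have huv : ∀ c, R b c → (e ^ u) c = (e ^ v) c := fun c hc => by rw [← hv e he c hc, hxe]
      obtain ⟨i, hi⟩ := hrep e he b hb heb g hg
      rw [hv g hg b (hRrefl b), hagree _ hg _ (P.pow_mem he i) b hi v b (hRrefl b),
        hagree _ hg _ (P.pow_mem he i) b hi u b (hRrefl b), ← pow_mul, ← pow_mul, mul_comm i v,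
        mul_comm i u, pow_mul, pow_mul]
      exact (hagree _ (P.pow_mem he u) _ (P.pow_mem he v) b huv i b (hRrefl b)).symm
    have hd : ∀ x ∈ K, ∀ y : N, x * y * x⁻¹ * y⁻¹ ∈ K ∧
        ∀ a, a ∉ Set.range s → ((x * y * x⁻¹ * y⁻¹ : N) ^ p : N).1 a = a := by
      intro x hx y
      have hcK : x * y * x⁻¹ * y⁻¹ ∈ K := by
        rw [mul_assoc, mul_assoc]
        refine K.mul_mem hx ?_
        have := (MonoidHom.normal_ker τ).conj_mem _ (K.inv_mem hx) y
        rwa [mul_assoc] at this
      refine ⟨hcK, fun a ha => ?_⟩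
      obtain ⟨u, hu⟩ := huni x hx
      have hconj : ∀ g ∈ P, ((x * y : N) : Perm α) * g * (((x * y : N) : Perm α))⁻¹ =
          ((y * x : N) : Perm α) * g * (((y * x : N) : Perm α))⁻¹ := by
        intro g hg
        simp only [Subgroup.coe_mul]
        calc (x : Perm α) * y * g * ((x : Perm α) * y)⁻¹
            = (x : Perm α) * ((y : Perm α) * g * (y : Perm α)⁻¹) * (x : Perm α)⁻¹ := by group
          _ = ((y : Perm α) * g * (y : Perm α)⁻¹) ^ u := hu _ (hNc y g hg)
          _ = (y : Perm α) * g ^ u * (y : Perm α)⁻¹ := conj_pow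
          _ = (y : Perm α) * ((x : Perm α) * g * (x : Perm α)⁻¹) * (y : Perm α)⁻¹ := by rw [hu g hg]
          _ = (y : Perm α) * x * g * ((y : Perm α) * x)⁻¹ := by group
      obtain ⟨g, hg, hgc⟩ := htransl x y a ha (hK _ hcK a ha) fun g hg b _ => by
        have := congrFun (congrArg (fun e : Perm α => (e : α → α)) (hconj g hg)) b
        simpa [Perm.mul_apply] using this
      have hrec : ∀ i : ℕ, (((x * y * x⁻¹ * y⁻¹ : N) ^ i : N) : Perm α) a = (g ^ i) a := by
        intro i
        induction i with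
        | zero => rfl
        | succ i ih =>
          rw [pow_succ', pow_succ', Subgroup.coe_mul, Perm.mul_apply, Perm.mul_apply, ih]
          exact hgc _ ⟨g ^ i, P.pow_mem hg i, rfl⟩
      rw [hrec, hpow g hg a ha]
    obtain ⟨σ, hσ, hσ1⟩ := (Subgroup.bot_or_exists_ne_one (K.map ρ)).resolve_left hKne
    obtain ⟨x, hx, rfl⟩ := hσ
    obtain rfl | rfl : r = 3 ∨ r = 4 := by omega
    · -- three
      have hp3 : p ≠ 3 := by
        intro h
        subst h
        obtain rfl | rfl : k = 1 ∨ k = 2 := by omega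
        · refine hnot (_root_.IsMultiplyPretransitive.alternatingGroup_le α G ?_)
          rw [Nat.card_eq_fintype_card, hn]
          exact hG4
        · exact hnot (nine hG4 (by omega))
      obtain ⟨π, hv1, hv3⟩ := fin3_key _ hσ1
      obtain ⟨y, rfl⟩ := hWitt π
      set c := x * y * x⁻¹ * y⁻¹ with hc
      have hvc : ρ c = ρ x * ρ y * (ρ x)⁻¹ * (ρ y)⁻¹ := by simp [hc]
      rw [← hvc] at hv1 hv3
      have hfixc := (hd x hx y).2
      have hne : ρ (c ^ p) ≠ 1 := by
        rw [map_pow]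
        intro h
        have h1 : orderOf (ρ c) ∣ p := orderOf_dvd_of_pow_eq_one h
        have h2 : orderOf (ρ c) ∣ 3 := orderOf_dvd_of_pow_eq_one (by rw [pow_three', hv3])
        have h3 : Nat.Coprime 3 p := (Nat.coprime_primes Nat.prime_three hp).2 (Ne.symm hp3)
        exact hv1 (orderOf_eq_one_iff.1 (Nat.eq_one_of_dvd_coprimes h3 h2 h1))
      have h33 : ρ (c ^ p) * ρ (c ^ p) * ρ (c ^ p) = 1 := by
        rw [map_pow, ← pow_three', ← pow_mul, mul_comm, pow_mul, pow_three', hv3, one_pow]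
      have hcard : ((c ^ p : N) : Perm α).support.card = 3 := by
        rw [hsmall _ hfixc, Finset.card_map,
          show (ρ (c ^ p)).support = Finset.univ from
            Finset.eq_univ_of_forall fun i => mem_support.2 (fin3_moves _ hne h33 i)]
        rfl
      exact hno3 _ (c ^ p).2.1 (card_support_eq_three_iff.1 hcard)
    · -- four
      have hp22 : p ≠ 2 := by
        intro h
        subst h
        obtain rfl : k = 1 := by omega
        refine hnot ?_
        rw [eq_top_of_isMultiplyPretransitive (G := G) (by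
          rw [Nat.card_eq_fintype_card, hn]; exact hG)]
        exact le_top
      obtain ⟨π, π', hv2, hvm⟩ := fin4_first _ hσ1
      obtain ⟨y, rfl⟩ := hWitt π
      obtain ⟨y', rfl⟩ := hWitt π'
      set b := x * y * x⁻¹ * y⁻¹ with hb
      set c := b * y' * b⁻¹ * y'⁻¹ with hc
      have hvc : ρ c = (ρ x * ρ y * (ρ x)⁻¹ * (ρ y)⁻¹) * ρ y' *
          (ρ x * ρ y * (ρ x)⁻¹ * (ρ y)⁻¹)⁻¹ * (ρ y')⁻¹ := by simp [hc, hb]
      rw [← hvc] at hv2 hvm
      have hbK : b ∈ K := (hd x hx y).1
      have hfixc := (hd b hbK y').2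
      have hodd : p % 2 = 1 := (hp.eq_two_or_odd).resolve_left hp22
      have hpw : ρ (c ^ p) = ρ c := by
        rw [map_pow, ← Nat.div_add_mod p 2, hodd, pow_add, pow_mul, pow_two, hv2, one_pow, one_mul, pow_one]
      have hcard : ((c ^ p : N) : Perm α).support.card = 4 := by
        rw [hsmall _ hfixc, Finset.card_map, hpw,
          show (ρ c).support = Finset.univ from Finset.eq_univ_of_forall fun i => mem_support.2 (hvm i)]
        rfl
      have hsq : ((c ^ p : N) : Perm α) * ((c ^ p : N) : Perm α) = 1 := by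
        refine Equiv.ext fun a => ?_
        rw [Perm.mul_apply, Perm.one_apply]
        by_cases ha : a ∈ Set.range s
        · obtain ⟨i, rfl⟩ := ha
          rw [hρ, hρ, hpw, ← Perm.mul_apply, hv2, Perm.one_apply]
        · rw [hfixc a ha, hfixc a ha]
      obtain ⟨t, ht, h3⟩ := threeCycle_of_double hG4 (by omega) (c ^ p).2.1 hsq hcard
      exact hno3 t ht h3
  · -- at least five fixed points
    have hA : alternatingGroup (Fin r) ≤ K.map ρ := by
      haveI := hKN
      exact Equiv.Perm.alternatingGroup_le_of_normal (by rw [Nat.card_fin]; exact hr5)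
        ((Subgroup.nontrivial_iff_ne_bot _).2 hKne)
    let K1 : Subgroup N :=
      { carrier := {x | ∀ a, a ∉ Set.range s → ∃ g ∈ P, ∀ b, R a b → (x : Perm α) b = g b}
        one_mem' := fun a _ => ⟨1, P.one_mem, fun b _ => rfl⟩
        mul_mem' := fun {x y} hx hy a ha => by
          obtain ⟨g, hg, hgx⟩ := hx a ha
          obtain ⟨h, hh, hhy⟩ := hy a ha
          refine ⟨g * h, P.mul_mem hg hh, fun b hb => ?_⟩
          rw [Subgroup.coe_mul, Perm.mul_apply, Perm.mul_apply, hhy b hb]
          exact hgx _ (hRtrans hb ⟨h, hh, rfl⟩)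
        inv_mem' := fun {x} hx a ha => by
          obtain ⟨g, hg, hgx⟩ := hx a ha
          refine ⟨g⁻¹, P.inv_mem hg, fun b hb => ?_⟩
          rw [Subgroup.coe_inv, Perm.inv_eq_iff_eq, hgx _ (hRtrans hb ⟨g⁻¹, P.inv_mem hg, rfl⟩)]
          simp }
    have h1 : ⁅K, K⁆ ≤ K1 := by
      refine Subgroup.commutator_le.2 fun x hx y hy a ha => ?_
      rw [commutatorElement_def]
      obtain ⟨u, hu⟩ := hscal x hx a ha
      obtain ⟨v, hv⟩ := hscal y hy a ha
      have hcK : x * y * x⁻¹ * y⁻¹ ∈ K :=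
        K.mul_mem (K.mul_mem (K.mul_mem hx hy) (K.inv_mem hx)) (K.inv_mem hy)
      refine htransl x y a ha (hK _ hcK a ha) fun g hg b hb => ?_
      have hb1 : R a ((x : Perm α)⁻¹ b) :=
        hRtrans hb (by simpa using hK x⁻¹ (K.inv_mem hx) b (hRout hb ha))
      have hb2 : R a ((y : Perm α)⁻¹ b) :=
        hRtrans hb (by simpa using hK y⁻¹ (K.inv_mem hy) b (hRout hb ha))
      have e1 : ((x * y : N) : Perm α) (g (((x * y : N) : Perm α)⁻¹ b)) =
          ((x : Perm α) * ((y : Perm α) * g * (y : Perm α)⁻¹) * (x : Perm α)⁻¹) b := by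
        simp [Perm.mul_apply]
      have e2 : ((y * x : N) : Perm α) (g (((y * x : N) : Perm α)⁻¹ b)) =
          ((y : Perm α) * ((x : Perm α) * g * (x : Perm α)⁻¹) * (y : Perm α)⁻¹) b := by
        simp [Perm.mul_apply]
      rw [e1, e2, hu _ (hNc y g hg) b hb, hv _ (hNc x g hg) b hb,
        hagree _ (hNc y g hg) _ (P.pow_mem hg v) a (hv g hg) u b hb,
        hagree _ (hNc x g hg) _ (P.pow_mem hg u) a (hu g hg) v b hb, ← pow_mul, ← pow_mul, mul_comm]
    let Z : Subgroup N :=
      { carrier := {x | ∀ a, a ∉ Set.range s → (x : Perm α) a = a}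
        one_mem' := fun a _ => rfl
        mul_mem' := fun {x y} hx hy a ha => by
          rw [Subgroup.coe_mul, Perm.mul_apply, hy a ha, hx a ha]
        inv_mem' := fun {x} hx a ha => by rw [Subgroup.coe_inv, Perm.inv_eq_iff_eq, hx a ha] }
    have h2 : ⁅K1, K1⁆ ≤ Z := by
      refine Subgroup.commutator_le.2 fun x hx y hy a ha => ?_
      obtain ⟨g, hg, hgx⟩ := hx a ha
      obtain ⟨h, hh, hhy⟩ := hy a ha
      obtain ⟨e, he, hea⟩ := hmove a ha
      obtain ⟨i, hi⟩ := hrep e he a ha hea g hg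
      obtain ⟨l, hl⟩ := hrep e he a ha hea h hh
      have hxy : ∀ b, R a b → ((x * y : N) : Perm α) b = ((y * x : N) : Perm α) b := by
        intro b hb
        have hb1 : R a ((e ^ l) b) := hRtrans hb ⟨_, P.pow_mem he l, rfl⟩
        have hb2 : R a ((e ^ i) b) := hRtrans hb ⟨_, P.pow_mem he i, rfl⟩
        rw [Subgroup.coe_mul, Subgroup.coe_mul, Perm.mul_apply, Perm.mul_apply, hhy b hb, hgx b hb,
          hl b hb, hi b hb, hgx _ hb1, hhy _ hb2, hi _ hb1, hl _ hb2, ← Perm.mul_apply, ← Perm.mul_apply,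
          ← pow_add, ← pow_add, add_comm]
      have hb : R a (((y * x : N) : Perm α)⁻¹ a) := by
        obtain ⟨t, ht, htt⟩ := (K1.inv_mem (K1.mul_mem hy hx)) a ha
        exact ⟨t, ht, by rw [← Subgroup.coe_inv, htt a (hRrefl a)]⟩
      rw [commutatorElement_def, show x * y * x⁻¹ * y⁻¹ = (x * y) * (y * x)⁻¹ by group,
        Subgroup.coe_mul, Subgroup.coe_inv, Perm.mul_apply, hxy _ hb]
      simp
    have hperf : ⁅alternatingGroup (Fin r), alternatingGroup (Fin r)⁆ = alternatingGroup (Fin r) := by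
      rw [← Subgroup.map_subtype_commutator, commutator_alternatingGroup_eq_top (by rw [Nat.card_fin]; exact hr5),
        ← MonoidHom.range_eq_map, Subgroup.range_subtype]
    have hAZ : alternatingGroup (Fin r) ≤ Z.map ρ := by
      have hA2 : alternatingGroup (Fin r) ≤ K1.map ρ := by
        calc alternatingGroup (Fin r) = ⁅alternatingGroup (Fin r), alternatingGroup (Fin r)⁆ := hperf.symm
          _ ≤ ⁅K.map ρ, K.map ρ⁆ := Subgroup.commutator_mono hA hA
          _ = (⁅K, K⁆).map ρ := (Subgroup.map_commutator _ _ ρ).symm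
          _ ≤ K1.map ρ := Subgroup.map_mono h1
      calc alternatingGroup (Fin r) = ⁅alternatingGroup (Fin r), alternatingGroup (Fin r)⁆ := hperf.symm
        _ ≤ ⁅K1.map ρ, K1.map ρ⁆ := Subgroup.commutator_mono hA2 hA2
        _ = (⁅K1, K1⁆).map ρ := (Subgroup.map_commutator _ _ ρ).symm
        _ ≤ Z.map ρ := Subgroup.map_mono h2
    obtain ⟨a, b, c, hab, hac, hbc⟩ : ∃ a b c : Fin r, a ≠ b ∧ a ≠ c ∧ b ≠ c :=
      ⟨⟨0, by omega⟩, ⟨1, by omega⟩, ⟨2, by omega⟩, by simp, by simp, by simp⟩
    have h3c : IsThreeCycle (swap a b * swap a c) := isThreeCycle_swap_mul_swap_same hab hac hbc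
    obtain ⟨x, hxZ, hxσ⟩ := hAZ h3c.mem_alternatingGroup
    refine hno3 _ x.2.1 (card_support_eq_three_iff.1 ?_)
    rw [hsmall x hxZ, Finset.card_map, hxσ]
    exact h3c.card_support

end CfsgLib.Manning
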