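import Cfsg.Agent.FGSB.Jordan
import Mathlib.GroupTheory.GroupAction.MultipleTransitivity
import Mathlib.GroupTheory.Perm.Cycle.Type

/-!
# Small supports in highly transitive groups; no sharply 4-transitive group of degree 9
-/

set_option autoImplicit false
set_option linter.style.haveILetI false

namespace CfsgLib.Manning

open Equiv Equiv.Perm MulAction

variable {α : Type*} [Fintype α] [DecidableEq α]

theorem exists_map {G : Subgroup (Perm α)} {m : ℕ} (hG : IsMultiplyPretransitive G α m)
    {x y : Fin m → α} (hx : Function.Injective x) (hy : Function.Injective y) :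
    ∃ g ∈ G, ∀ i, g (x i) = y i := by
  obtain ⟨g, hg⟩ := (isMultiplyPretransitive_iff (G := G) (α := α)).1 hG ⟨x, hx⟩ ⟨y, hy⟩
  exact ⟨g, g.2, fun i => congrFun (congrArg (fun f : Fin m ↪ α => (f : Fin m → α)) hg) i⟩

theorem exists_map_four {G : Subgroup (Perm α)} (hG : IsMultiplyPretransitive G α 4) {a b c d a' b' c' d' : α}
    (hx : Function.Injective ![a, b, c, d]) (hy : Function.Injective ![a', b', c', d']) :
    ∃ g ∈ G, g a = a' ∧ g b = b' ∧ g c = c' ∧ g d = d' := by
  obtain ⟨g, hg, h⟩ := exists_map hG hx hy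
  exact ⟨g, hg, h 0, h 1, h 2, h 3⟩

theorem injective_four {a b c d : α} (hab : a ≠ b) (hac : a ≠ c) (had : a ≠ d) (hbc : b ≠ c)
    (hbd : b ≠ d) (hcd : c ≠ d) : Function.Injective ![a, b, c, d] := by
  intro i j h
  fin_cases i <;> fin_cases j <;> simp_all

/-- With 4-transitivity a product of two transpositions gives a 3-cycle. -/
theorem threeCycle_of_double {G : Subgroup (Perm α)} (hG : IsMultiplyPretransitive G α 4)
    (h5 : 5 ≤ Fintype.card α) {σ : Perm α} (hσ : σ ∈ G) (h2 : σ * σ = 1) (hs : σ.support.card = 4) :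
    ∃ t ∈ G, IsThreeCycle t := by
  have hinv : ∀ x, σ (σ x) = x := fun x => by rw [← Perm.mul_apply, h2, Perm.one_apply]
  obtain ⟨a, ha⟩ : σ.support.Nonempty := Finset.card_pos.1 (by omega)
  have hab : σ a ≠ a := mem_support.1 ha
  obtain ⟨c, hc, hc'⟩ : ∃ c ∈ σ.support, c ∉ ({a, σ a} : Finset α) := by
    refine Finset.exists_mem_notMem_of_card_lt_card ?_
    have : ({a, σ a} : Finset α).card ≤ 2 := Finset.card_le_two
    omega
  have hcd : σ c ≠ c := mem_support.1 hc
  simp only [Finset.mem_insert, Finset.mem_singleton, not_or] at hc'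
  have hac : a ≠ c := Ne.symm hc'.1
  have hbc : σ a ≠ c := Ne.symm hc'.2
  have had : a ≠ σ c := fun h => hc'.2 (by rw [h, hinv])
  have hbd : σ a ≠ σ c := fun h => hac (σ.injective h)
  have hsupp : σ.support = {a, σ a, c, σ c} := by
    refine (Finset.eq_of_subset_of_card_le ?_ ?_).symm
    · intro x hx
      simp only [Finset.mem_insert, Finset.mem_singleton] at hx
      rw [mem_support]
      rcases hx with rfl | rfl | rfl | rfl
      · exact hab
      · exact fun h => hab (σ.injective h)
      · exact hcd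
      · exact fun h => hcd (σ.injective h)
    · rw [hs, Finset.card_insert_of_notMem, Finset.card_insert_of_notMem, Finset.card_insert_of_notMem,
        Finset.card_singleton]
      · simp [hcd.symm]
      · simp [hbc, hbd]
      · simp [hab.symm, hac, had]
  have hσeq : σ = swap a (σ a) * swap c (σ c) := by
    refine Equiv.ext fun x => ?_
    by_cases hx : x ∈ σ.support
    · rw [hsupp] at hx
      simp only [Finset.mem_insert, Finset.mem_singleton] at hx
      rcases hx with rfl | rfl | rfl | rfl
      · rw [Perm.mul_apply, swap_apply_of_ne_of_ne hac had, swap_apply_left]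
      · rw [Perm.mul_apply, swap_apply_of_ne_of_ne hbc hbd, swap_apply_right, hinv]
      · rw [Perm.mul_apply, swap_apply_left, swap_apply_of_ne_of_ne had.symm hbd.symm]
      · rw [Perm.mul_apply, swap_apply_right, swap_apply_of_ne_of_ne hac.symm hbc.symm, hinv]
    · rw [notMem_support.1 hx]
      rw [hsupp] at hx
      simp only [Finset.mem_insert, Finset.mem_singleton, not_or] at hx
      rw [Perm.mul_apply, swap_apply_of_ne_of_ne hx.2.2.1 hx.2.2.2, swap_apply_of_ne_of_ne hx.1 hx.2.1]
  obtain ⟨e, he⟩ : ∃ e, e ∉ σ.support := by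
    by_contra h
    simp only [not_exists, not_not] at h
    have : σ.support = Finset.univ := Finset.eq_univ_of_forall h
    rw [this, Finset.card_univ] at hs
    omega
  rw [hsupp] at he
  simp only [Finset.mem_insert, Finset.mem_singleton, not_or] at he
  obtain ⟨hea, heb, hec, hed⟩ := he
  obtain ⟨τ, hτ, t1, t2, t3, t4⟩ := exists_map_four hG (injective_four hab.symm hac had hbc hbd hcd.symm)
    (injective_four hab.symm hac (Ne.symm hea) hbc (Ne.symm heb) (Ne.symm hec))
  have hconj : ∀ x y, τ * swap x y * τ⁻¹ = swap (τ x) (τ y) := fun x y => by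
    rw [mul_inv_eq_iff_eq_mul]
    exact Equiv.mul_swap_eq_swap_mul τ x y
  refine ⟨σ * (τ * σ * τ⁻¹), G.mul_mem hσ (G.mul_mem (G.mul_mem hτ hσ) (G.inv_mem hτ)), ?_⟩
  have hc2 : τ * σ * τ⁻¹ = swap a (σ a) * swap c e := by
    conv_lhs => rw [hσeq]
    rw [show τ * (swap a (σ a) * swap c (σ c)) * τ⁻¹ =
      (τ * swap a (σ a) * τ⁻¹) * (τ * swap c (σ c) * τ⁻¹) by group, hconj, hconj, t1, t2, t3, t4]
  have hcomm : swap c (σ c) * swap a (σ a) = swap a (σ a) * swap c (σ c) := by
    refine (Disjoint.commute ?_).eq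
    intro x
    by_cases h1 : x = c ∨ x = σ c
    · right
      rcases h1 with rfl | rfl
      · exact swap_apply_of_ne_of_ne hac.symm hbc.symm
      · exact swap_apply_of_ne_of_ne had.symm hbd.symm
    · left
      rw [not_or] at h1
      exact swap_apply_of_ne_of_ne h1.1 h1.2
  have hprod : σ * (τ * σ * τ⁻¹) = swap c (σ c) * swap c e := by
    rw [hc2]
    conv_lhs => arg 1; rw [hσeq, ← hcomm]
    rw [mul_assoc, ← mul_assoc (swap a (σ a)), swap_mul_self, one_mul]
  rw [hprod]
  exact isThreeCycle_swap_mul_swap_same hcd.symm (Ne.symm hec) (Ne.symm hed)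

/-- A prime order element moving at most five points gives the alternating group. -/
theorem alternating_of_small_support {G : Subgroup (Perm α)} (hG : IsMultiplyPretransitive G α 4)
    (h8 : 8 ≤ Fintype.card α) {x : Perm α} (hx : x ∈ G) (hx1 : x ≠ 1) (hs : x.support.card ≤ 5) :
    alternatingGroup α ≤ G := by
  classical
  haveI : IsMultiplyPretransitive G α 2 := by
    haveI := hG
    exact MulAction.isMultiplyPretransitive_of_le (n := 4) (by norm_num)
      (by rw [Nat.card_eq_fintype_card]; omega)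
  have hprim : IsPreprimitive G α := isPreprimitive_of_is_two_pretransitive inferInstance
  obtain ⟨q, hq, hqd⟩ := Nat.exists_prime_and_dvd (mt orderOf_eq_one_iff.1 hx1)
  haveI : Fact q.Prime := ⟨hq⟩
  set y := x ^ (orderOf x / q) with hy
  have hyo : orderOf y = q := by
    rw [hy, orderOf_pow' x (Nat.div_ne_zero_iff.2 ⟨hq.ne_zero, Nat.le_of_dvd (orderOf_pos x) hqd⟩),
      Nat.gcd_eq_right (Nat.div_dvd_of_dvd hqd), Nat.div_div_self hqd (orderOf_pos x).ne']
  have hyG : y ∈ G := G.pow_mem hx _
  have hys : y.support.card ≤ 5 := (Finset.card_le_card (support_pow_le x _)).trans hs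
  obtain ⟨m, hm⟩ := cycleType_prime_order (σ := y) (by rw [hyo]; exact hq)
  have hsum : y.support.card = (m + 1) * q := by
    rw [← sum_cycleType, hm, Multiset.sum_replicate, smul_eq_mul, hyo]
  have hq2 := hq.two_le
  have hcase : m = 0 ∨ (m = 1 ∧ q = 2) := by
    rcases Nat.eq_zero_or_pos m with h | h
    · exact Or.inl h
    · right
      have h2 : (1 + 1) * q ≤ (m + 1) * q := Nat.mul_le_mul_right _ (by omega)
      have h3 : (m + 1) * 2 ≤ (m + 1) * q := Nat.mul_le_mul_left _ hq2
      omega
  rcases hcase with rfl | ⟨rfl, rfl⟩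
  · have hcyc : y.IsCycle := by
      rw [← card_cycleType_eq_one, hm, Multiset.card_replicate]
    exact CfsgLib.Jordan.alternatingGroup_le_of_isCycle hprim hyG hcyc
      (by rw [hsum]; simpa using hq) (by omega)
  · obtain ⟨t, ht, h3⟩ := threeCycle_of_double hG (by omega) hyG
      (by rw [← pow_two, ← hyo, pow_orderOf_eq_one]) (by omega)
    exact alternatingGroup_le_of_isPreprimitive_of_isThreeCycle_mem hprim h3 ht

theorem fin4_key : ∀ a b : Perm (Fin 4), a * a = 1 → b * b = 1 → (∀ i, a i ≠ i) → (∀ i, b i ≠ i) →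
    a * b = b * a → a ≠ b → ∀ c : Perm (Fin 4), c * c = 1 → (∀ i, c i ≠ i) → c * (a * b) = a * b * c →
      a * c * a ≠ c * (a * b) := by
  decide +kernel

/-- Degree nine. -/
theorem nine {G : Subgroup (Perm α)} (hG : IsMultiplyPretransitive G α 4) (h9 : Fintype.card α = 9) :
    alternatingGroup α ≤ G := by
  classical
  by_contra hnot
  have hsmall : ∀ x ∈ G, x.support.card ≤ 5 → x = 1 := fun x hx hs => by
    by_contra h
    exact hnot (alternating_of_small_support hG (by omega) hx h hs)
  let e : α ≃ Fin 9 := Fintype.equivFinOfCardEq h9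
  set p1 := e.symm 0 with hp1
  set p2 := e.symm 1 with hp2
  set p3 := e.symm 2 with hp3
  set p4 := e.symm 3 with hp4
  have h12 : p1 ≠ p2 := by simp [hp1, hp2]
  have h13 : p1 ≠ p3 := by simp [hp1, hp3]
  have h14 : p1 ≠ p4 := by simp [hp1, hp4]
  have h23 : p2 ≠ p3 := by simp [hp2, hp3]
  have h24 : p2 ≠ p4 := by simp [hp2, hp4]
  have h34 : p3 ≠ p4 := by simp [hp3, hp4]
  let four : Finset α := {p1, p2, p3, p4}
  have hfour : four.card = 4 := by
    simp [four, Finset.card_insert_of_notMem, h12, h13, h14, h23, h24, h34]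
  -- an element fixing the four points is trivial
  have huniq : ∀ x ∈ G, (∀ a ∈ four, x a = a) → x = 1 := fun x hx h => by
    refine hsmall x hx ?_
    have hsub : x.support ⊆ fourᶜ := fun a ha => Finset.mem_compl.2 fun h' => mem_support.1 ha (h a h')
    refine (Finset.card_le_card hsub).trans ?_
    rw [Finset.card_compl, hfour, h9]
  have hinj := injective_four h12 h13 h14 h23 h24 h34
  obtain ⟨v, hv, v1, v2, v3, v4⟩ := exists_map_four hG hinj (injective_four h12.symm h23 h24 h13 h14 h34)
  obtain ⟨v', hv', a1, a2, a3, a4⟩ := exists_map_four hG hinj (injective_four h12 h14 h13 h24 h23 h34.symm)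
  obtain ⟨w, hw, w1, w2, w3, w4⟩ := exists_map_four hG hinj (injective_four h34 h13.symm h23.symm h14.symm h24.symm h12)
  have mk : ∀ x y : Perm α, x ∈ G → y ∈ G → x p1 = y p1 → x p2 = y p2 → x p3 = y p3 → x p4 = y p4 → x = y := by
    intro x y hx hy e1 e2 e3 e4
    refine (inv_mul_eq_one.1 (huniq (y⁻¹ * x) (G.mul_mem (G.inv_mem hy) hx) fun a ha => ?_)).symm
    simp only [four, Finset.mem_insert, Finset.mem_singleton] at ha
    rcases ha with rfl | rfl | rfl | rfl <;> rw [Perm.mul_apply, Perm.inv_eq_iff_eq] <;> assumption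
  have hvv : v * v = 1 := mk _ _ (G.mul_mem hv hv) G.one_mem (by simp [v1, v2]) (by simp [v1, v2])
    (by simp [v3]) (by simp [v4])
  have haa : v' * v' = 1 := mk _ _ (G.mul_mem hv' hv') G.one_mem (by simp [a1]) (by simp [a2])
    (by simp [a3, a4]) (by simp [a3, a4])
  have hww : w * w = 1 := mk _ _ (G.mul_mem hw hw) G.one_mem (by simp [w1, w3]) (by simp [w2, w4])
    (by simp [w1, w3]) (by simp [w2, w4])
  have hva : v * v' = v' * v := mk _ _ (G.mul_mem hv hv') (G.mul_mem hv' hv) (by simp [v1, a1, a2])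
    (by simp [v2, a2, a1]) (by simp [v3, v4, a3]) (by simp [v3, v4, a4])
  have hwu : w * (v * v') = v * v' * w :=
    mk _ _ (G.mul_mem hw (G.mul_mem hv hv')) (G.mul_mem (G.mul_mem hv hv') hw)
      (by simp [v1, v2, v3, v4, a1, a2, a3, a4, w1, w2, w3, w4])
      (by simp [v1, v2, v3, v4, a1, a2, a3, a4, w1, w2, w3, w4])
      (by simp [v1, v2, v3, v4, a1, a2, a3, a4, w1, w2, w3, w4])
      (by simp [v1, v2, v3, v4, a1, a2, a3, a4, w1, w2, w3, w4])
  have hvw : v * w * v = w * (v * v') :=
    mk _ _ (G.mul_mem (G.mul_mem hv hw) hv) (G.mul_mem hw (G.mul_mem hv hv'))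
      (by simp [v1, v2, v3, v4, a1, a2, a3, a4, w1, w2, w3, w4])
      (by simp [v1, v2, v3, v4, a1, a2, a3, a4, w1, w2, w3, w4])
      (by simp [v1, v2, v3, v4, a1, a2, a3, a4, w1, w2, w3, w4])
      (by simp [v1, v2, v3, v4, a1, a2, a3, a4, w1, w2, w3, w4])
  let five := fourᶜ
  have hfive : five.card = 5 := by rw [Finset.card_compl, hfour, h9]
  -- an involution stabilising the four points fixes one of the other five
  have hfix : ∀ x : Perm α, x * x = 1 → (∀ a ∈ four, x a ∈ four) → ∃ f ∈ five, x f = f := by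
    intro x hx hst
    by_contra hno
    simp only [not_exists, not_and] at hno
    have hinv : ∀ z, x (x z) = z := fun z => by rw [← Perm.mul_apply, hx, Perm.one_apply]
    have hst' : ∀ a, x a ∈ five ↔ a ∈ five := fun a => by
      simp only [five, Finset.mem_compl]
      exact not_congr ⟨fun h => by simpa [hinv] using hst _ h, hst a⟩
    let x5 : Perm {a // a ∈ five} := x.subtypePerm hst'
    have hx5 : x5 ^ 2 = 1 := Equiv.ext fun a => Subtype.ext (by simp [x5, pow_two, hinv])
    have h := Equiv.Perm.card_compl_support_modEq (p := 2) (n := 1) (σ := x5) (by simpa using hx5)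
    have hcard : x5.supportᶜ = ∅ := by
      refine Finset.eq_empty_of_forall_notMem fun a ha => ?_
      rw [Finset.mem_compl, notMem_support] at ha
      exact hno a.1 a.2 (congrArg Subtype.val ha)
    rw [hcard, Finset.card_empty, Fintype.card_coe, hfive] at h
    exact absurd h (by decide)
  have hst : ∀ x ∈ [v, v', w, v * v'], ∀ a ∈ four, x a ∈ four := by
    intro x hx a ha
    simp only [four, Finset.mem_insert, Finset.mem_singleton] at ha ⊢
    simp only [List.mem_cons, List.mem_singleton, List.not_mem_nil, or_false] at hx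
    rcases hx with rfl | rfl | rfl | rfl <;> rcases ha with rfl | rfl | rfl | rfl <;>
      simp [v1, v2, v3, v4, a1, a2, a3, a4, w1, w2, w3, w4]
  have hatmost : ∀ x ∈ G, x ≠ 1 → ∀ f g h : α, f ≠ g → f ≠ h → g ≠ h → x f = f → x g = g → x h = h →
      ∀ i, i ≠ f → i ≠ g → i ≠ h → x i = i → False := by
    intro x hx hx1 f g h hfg hfh hgh xf xg xh i hif hig hih xi
    refine hx1 (hsmall x hx ?_)
    have hsub : x.support ⊆ ({f, g, h, i} : Finset α)ᶜ := fun a ha => Finset.mem_compl.2 fun h' => by
      simp only [Finset.mem_insert, Finset.mem_singleton] at h'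
      rcases h' with rfl | rfl | rfl | rfl <;> exact mem_support.1 ha ‹_›
    refine (Finset.card_le_card hsub).trans ?_
    rw [Finset.card_compl, h9]
    have : ({f, g, h, i} : Finset α).card = 4 := by
      simp [Finset.card_insert_of_notMem, hfg, hfh, hgh, hif.symm, hig.symm, hih.symm]
    omega
  have hv1 : v ≠ 1 := fun h => h12 (by simpa [h] using v1)
  have hv'1 : v' ≠ 1 := fun h => h34 (by simpa [h] using a3)
  have hmem : ∀ {f}, f ∈ five → f ≠ p1 ∧ f ≠ p2 ∧ f ≠ p3 ∧ f ≠ p4 := fun {f} hf => by
    simpa [five, four] using hf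
  -- the unique fixed points
  have huv : ∀ f ∈ five, ∀ g ∈ five, v f = f → v g = g → f = g := fun f hf g hg vf vg => by
    by_contra hne
    exact hatmost v hv hv1 p3 p4 f h34 (hmem hf).2.2.1.symm (hmem hf).2.2.2.symm v3 v4 vf g (hmem hg).2.2.1
      (hmem hg).2.2.2 (Ne.symm hne) vg
  have hua : ∀ f ∈ five, ∀ g ∈ five, v' f = f → v' g = g → f = g := fun f hf g hg vf vg => by
    by_contra hne
    exact hatmost v' hv' hv'1 p1 p2 f h12 (hmem hf).1.symm (hmem hf).2.1.symm a1 a2 vf g (hmem hg).1
      (hmem hg).2.1 (Ne.symm hne) vg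
  obtain ⟨f, hf, vf⟩ := hfix v hvv (hst v (by simp))
  obtain ⟨f', hf', af⟩ := hfix v' haa (hst v' (by simp))
  have hmemiff : ∀ x ∈ [v, v', w, v * v'], ∀ a ∈ five, x a ∈ five := by
    intro x hx a ha
    simp only [five, Finset.mem_compl] at ha ⊢
    intro hxa
    have hb : four.image x = four := Finset.eq_of_subset_of_card_le
      (fun b hb => by
        obtain ⟨c, hc, rfl⟩ := Finset.mem_image.1 hb
        exact hst x hx c hc)
      (by rw [Finset.card_image_of_injective _ x.injective])
    rw [← hb, Finset.mem_image] at hxa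
    obtain ⟨c, hc, hcx⟩ := hxa
    exact ha (x.injective hcx ▸ hc)
  have hff : v f' = f' := by
    have h1 : v' (v f') = v f' := by rw [← Perm.mul_apply, ← hva, Perm.mul_apply, af]
    exact hua _ (hmemiff v (by simp) _ hf') _ hf' h1 af
  rw [huv _ hf' _ hf hff vf] at af
  -- the rest
  let R := five.erase f
  have hR : R.card = 4 := by rw [Finset.card_erase_of_mem hf, hfive]
  have hvR : ∀ a ∈ R, v a ≠ a := fun a ha h =>
    (Finset.mem_erase.1 ha).1 (huv a (Finset.mem_erase.1 ha).2 f hf h vf)
  have haR : ∀ a ∈ R, v' a ≠ a := fun a ha h =>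
    (Finset.mem_erase.1 ha).1 (hua a (Finset.mem_erase.1 ha).2 f hf h af)
  have hufix : ∀ g ∈ five, (v * v') g = g → g = f := by
    intro g hg hgu
    by_contra hne
    -- then `v` and `v'` agree on all of the five, so `v * v'` moves at most four points
    have h1 : v g = v' g := by
      have h := congrArg v hgu
      rw [Perm.mul_apply, ← Perm.mul_apply v v, hvv, Perm.one_apply] at h
      exact h.symm
    have hgR : g ∈ R := Finset.mem_erase.2 ⟨hne, hg⟩
    have hg' : v g ∈ R := Finset.mem_erase.2 ⟨fun h => hne (v.injective (h.trans vf.symm)), hmemiff v (by simp) g hg⟩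
    have hu1 : v * v' ≠ 1 := fun h => h12 (by
      have := congrArg (fun x : Perm α => x p1) h
      simpa [a1, v1] using this.symm)
    have hvgne : v g ≠ g := hvR g hgR
    obtain ⟨i, hi, hi'⟩ := Finset.exists_mem_notMem_of_card_lt_card
      (show ({g, v g} : Finset α).card < R.card by
        rw [hR]; exact lt_of_le_of_lt Finset.card_le_two (by omega))
    simp only [Finset.mem_insert, Finset.mem_singleton, not_or] at hi'
    have hvvg : v (v g) = g := by rw [← Perm.mul_apply, hvv, Perm.one_apply]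
    have haag : v' (v g) = g := by rw [h1, ← Perm.mul_apply, haa, Perm.one_apply]
    have hin : ∀ x : Perm α, x f = f → (∀ a ∈ five, x a ∈ five) → ∀ a ∈ R, x a ∈ R := fun x hxf hx a ha =>
      Finset.mem_erase.2 ⟨fun h => (Finset.mem_erase.1 ha).1 (x.injective (h.trans hxf.symm)),
        hx a (Finset.mem_erase.1 ha).2⟩
    have hsame : v i = v' i := by
      by_contra hvi
      have hc : ({g, v g, i, v i, v' i} : Finset α).card ≤ R.card := by
        refine Finset.card_le_card fun a ha => ?_
        simp only [Finset.mem_insert, Finset.mem_singleton] at ha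
        rcases ha with rfl | rfl | rfl | rfl | rfl
        exacts [hgR, hg', hi, hin v vf (hmemiff v (by simp)) i hi, hin v' af (hmemiff v' (by simp)) i hi]
      have e1 : v i ≠ g := fun h => hi'.2 (v.injective (h.trans hvvg.symm))
      have e2 : v i ≠ v g := fun h => hi'.1 (v.injective h)
      have e3 : v' i ≠ g := fun h => hi'.2 (v'.injective (h.trans haag.symm))
      have e4 : v' i ≠ v g := fun h => hi'.1 (v'.injective (h.trans h1))
      rw [hR, Finset.card_insert_of_notMem, Finset.card_insert_of_notMem, Finset.card_insert_of_notMem,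
        Finset.card_insert_of_notMem, Finset.card_singleton] at hc
      · omega
      · simp [hvi]
      · simp [(hvR i hi).symm, (haR i hi).symm]
      · simp [Ne.symm hi'.2, e2.symm, e4.symm]
      · simp [hvgne.symm, Ne.symm hi'.1, e1.symm, e3.symm]
    refine hatmost (v * v') (G.mul_mem hv hv') hu1 f g (v g) (Ne.symm hne)
      (Finset.mem_erase.1 hg').1.symm hvgne.symm (by rw [Perm.mul_apply, af, vf]) hgu
      (by rw [Perm.mul_apply, haag]) i (Finset.mem_erase.1 hi).1 hi'.1 hi'.2 ?_
    rw [Perm.mul_apply, ← hsame, ← Perm.mul_apply, hvv, Perm.one_apply]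
  have hwf : w f = f := by
    refine hufix _ (hmemiff w (by simp) f hf) ?_
    rw [← Perm.mul_apply, ← hwu, Perm.mul_apply, show (v * v') f = f by rw [Perm.mul_apply, af, vf]]
  have hRst : ∀ x ∈ [v, v', w], ∀ a, x a ∈ R ↔ a ∈ R := by
    intro x hx a
    have hxf : x f = f := by
      simp only [List.mem_cons, List.mem_singleton, List.not_mem_nil, or_false] at hx
      rcases hx with rfl | rfl | rfl <;> assumption
    have hx' : x ∈ [v, v', w, v * v'] := by simp at hx ⊢; tauto
    have key : ∀ a ∈ R, x a ∈ R := fun a ha => Finset.mem_erase.2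
      ⟨fun h => (Finset.mem_erase.1 ha).1 (x.injective (h.trans hxf.symm)),
        hmemiff x hx' a (Finset.mem_erase.1 ha).2⟩
    refine ⟨fun h => ?_, key a⟩
    have h2 := key _ h
    have hxx : x (x a) = a := by
      simp only [List.mem_cons, List.mem_singleton, List.not_mem_nil, or_false] at hx
      rcases hx with rfl | rfl | rfl <;> rw [← Perm.mul_apply]
      · rw [hvv]; rfl
      · rw [haa]; rfl
      · rw [hww]; rfl
    rwa [hxx] at h2
  obtain ⟨x, hx, x1, x2, x3, x4⟩ := exists_map_four hG hinj (injective_four h13 h12 h14 h23.symm h34 h24)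
  have hxu : x * (v * v') = w * x :=
    mk _ _ (G.mul_mem hx (G.mul_mem hv hv')) (G.mul_mem hw hx)
      (by simp [v1, v2, v3, v4, a1, a2, a3, a4, w1, w2, w3, w4, x1, x2, x3, x4])
      (by simp [v1, v2, v3, v4, a1, a2, a3, a4, w1, w2, w3, w4, x1, x2, x3, x4])
      (by simp [v1, v2, v3, v4, a1, a2, a3, a4, w1, w2, w3, w4, x1, x2, x3, x4])
      (by simp [v1, v2, v3, v4, a1, a2, a3, a4, w1, w2, w3, w4, x1, x2, x3, x4])
  have hwR : ∀ a ∈ R, w a ≠ a := by
    intro a ha hwa
    have hpre : ∀ i ∈ five, w i = i → x⁻¹ i = f := by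
      intro i hi hwi
      refine hufix _ ?_ (x.injective ?_)
      · simp only [five, Finset.mem_compl] at hi ⊢
        intro h
        apply hi
        simp only [four, Finset.mem_insert, Finset.mem_singleton] at h ⊢
        rcases h with h | h | h | h <;> rw [Perm.inv_eq_iff_eq] at h <;> rw [h] <;> simp [x1, x2, x3, x4]
      · rw [← Perm.mul_apply, hxu, Perm.mul_apply]
        simp only [Perm.coe_inv, Equiv.apply_symm_apply]
        exact hwi
    obtain ⟨hne, h5⟩ := Finset.mem_erase.1 ha
    exact hne (x⁻¹.injective ((hpre a h5 hwa).trans (hpre f hf hwf).symm))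
  let i4 : {a // a ∈ R} ≃ Fin 4 := Fintype.equivFinOfCardEq (by rw [Fintype.card_coe, hR])
  let Φ : (x : Perm α) → x ∈ [v, v', w] → Perm (Fin 4) := fun x hx => i4.permCongr (x.subtypePerm (hRst x hx))
  have hΦ : ∀ x hx i, Φ x hx i = i4 ⟨x (i4.symm i), (hRst x hx _).2 (i4.symm i).2⟩ := fun x hx i => rfl
  have hv5 : v ∈ [v, v', w] := by simp
  have ha5 : v' ∈ [v, v', w] := by simp
  have hw5 : w ∈ [v, v', w] := by simp
  refine fin4_key (Φ v hv5) (Φ v' ha5) ?_ ?_ ?_ ?_ ?_ ?_ (Φ w hw5) ?_ ?_ ?_ ?_
  · refine Equiv.ext fun i => ?_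
    simp [hΦ, Perm.mul_apply, show v (v (i4.symm i : α)) = i4.symm i by rw [← Perm.mul_apply, hvv]; rfl]
  · refine Equiv.ext fun i => ?_
    simp [hΦ, Perm.mul_apply, show v' (v' (i4.symm i : α)) = i4.symm i by rw [← Perm.mul_apply, haa]; rfl]
  · intro i h
    refine hvR _ (i4.symm i).2 ?_
    exact congrArg Subtype.val ((Equiv.apply_eq_iff_eq_symm_apply i4).1 h)
  · intro i h
    refine haR _ (i4.symm i).2 ?_
    exact congrArg Subtype.val ((Equiv.apply_eq_iff_eq_symm_apply i4).1 h)
  · refine Equiv.ext fun i => ?_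
    simp [hΦ, Perm.mul_apply, show v (v' (i4.symm i : α)) = v' (v (i4.symm i)) by
      rw [← Perm.mul_apply, hva]; rfl]
  · intro h
    have hg : (i4.symm 0 : α) ∈ R := (i4.symm 0).2
    refine (Finset.mem_erase.1 hg).1 (hufix _ (Finset.mem_erase.1 hg).2 ?_)
    have h0 := congrFun (congrArg (fun x : Perm (Fin 4) => (x : Fin 4 → Fin 4)) h) 0
    simp only [hΦ, i4.apply_eq_iff_eq, Subtype.mk.injEq] at h0
    rw [Perm.mul_apply, ← h0, ← Perm.mul_apply, hvv]
    rfl
  · refine Equiv.ext fun i => ?_
    simp [hΦ, Perm.mul_apply, show w (w (i4.symm i : α)) = i4.symm i by rw [← Perm.mul_apply, hww]; rfl]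
  · intro i h
    refine hwR _ (i4.symm i).2 ?_
    exact congrArg Subtype.val ((Equiv.apply_eq_iff_eq_symm_apply i4).1 h)
  · refine Equiv.ext fun i => ?_
    simp [hΦ, Perm.mul_apply, show w (v (v' (i4.symm i : α))) = v (v' (w (i4.symm i))) by
      have := congrFun (congrArg (fun x : Perm α => (x : α → α)) hwu) (i4.symm i : α)
      simpa using this]
  · refine Equiv.ext fun i => ?_
    simp [hΦ, Perm.mul_apply, show v (w (v (i4.symm i : α))) = w (v (v' (i4.symm i))) by
      have := congrFun (congrArg (fun x : Perm α => (x : α → α)) hvw) (i4.symm i : α)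
      simpa using this]

end CfsgLib.Manning
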